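import Cfsg.Agent.Lib.Six.Graph

/-! The case `C(t) / Q ≅ A₅`: `Q` has order two. -/

set_option autoImplicit false

namespace Cfsg.Lib.Six

open Subgroup Cfsg.Lib.BG Cfsg.Lib.FGS Cfsg.Lib.SR Cfsg.Lib.Harada
open scoped Cfsg.Lib.Transfer Pointwise commutatorElement

variable {G : Type*} [Group G] [Finite G] {t y s u g : G} {A Q R S U : Subgroup G}

theorem card_OZ_le (hR : R ≤ S) (hc : Nat.card S ≤ 2 * Nat.card R) {n : ℕ}
    (hn : Nat.card (OZ S) ≤ n) (h1 : R ≠ S) : Nat.card (OZ R) ≤ n * n := by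
  obtain ⟨q, hq, q1⟩ := SetLike.exists_of_lt (lt_of_le_of_ne hR h1)
  have k1 := card_le_cm (X := OZ R) fun c hc' => Fix4.cm_fix OZ_sq
    (norm_OZ (norm_two hR hc) hq) (cent_symm OZ_cent (not_mul hR hc hq hq q1 q1)) hc'
  have k2 : OZ R ⊓ 𝐂[q] ≤ OZ S := fun v hv => ⟨⟨hR hv.1.1.1, le_cent1_iff.1 fun s hs => by
    by_cases k : s ∈ R
    · exact le_cent1_iff.2 hv.1.1.2 k
    · exact (mul_mem_cancel_right (mem_cent1_symm hv.2)).1
        (le_cent1_iff.2 hv.1.1.2 (not_mul hR hc hs hq k q1))⟩, hv.1.2⟩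
  have := (card_le_of_le k2).trans hn
  exact k1.trans (Nat.mul_le_mul this this)

theorem es_ab (h : IsExtraspecial 2 Q) (hA : A ≤ Q) (hc : A ≤ 𝐂(A)) :
    Nat.card A * Nat.card A ≤ 2 * Nat.card Q := by
  rw [← ES.card_centralizer_mul h (A.subgroupOf Q), ← Core.card_subgroupOf_of_le hA]
  exact Nat.mul_le_mul (card_le_of_le fun x hx z hz => Subtype.ext (mem_cent.1 (hc hx) z hz))
    (card_le_of_le le_sup_left)

theorem card_mod5 (hw : orderOf g = 5) (hn : g ∈ 𝐍(R)) :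
    Nat.card R % 5 = Nat.card ↥(R ⊓ 𝐂[g]) % 5 := by
  have : Fact (Nat.Prime 5) := ⟨by norm_num⟩
  have := Transfer.card_modEq_card_inf_centralizer (q := 5)
    (.of_card (n := 1) (by rw [Nat.card_zpowers, hw, pow_one])) (zpowers_le.2 hn)
  rwa [cent_zpowers] at this

structure Sb (t y : G) (Q S : Subgroup G) : Prop extends St t y Q S where
  cm : ⁅Q, Q⁆ ≤ zpowers t
  idx : Nat.card S = 4 * Nat.card Q
  five : ∃ f ∈ 𝐂[t], orderOf f = 5
  thr : ∃ w ∈ 𝐍(S) ⊓ 𝐂[t], orderOf w = 3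
  sixty : ∀ g ∈ 𝐂[t], g ^ 60 ∈ Q
  n5 : ∀ g ∈ 𝐍(S) ⊓ 𝐂[t], orderOf g ≠ 5

namespace Sb

variable (h : Sb t y Q S)
include h

omit [Finite G] in
theorem h5 (p1 : (orderOf g).Prime) (p5 : 5 ≤ orderOf g) (hs : orderOf s = 2) (k : g ∈ 𝐂[s]) :
    orderOf g = 5 := by
  obtain ⟨c, rfl⟩ := isConj_iff.1 (h.one t s h.ot hs)
  rw [← conj_cent1, Transfer.mem_conj] at k
  obtain ⟨n, e⟩ := pw_of_mem h.Q2 (h.sixty _ k)
  rw [← pow_mul, ← orderOf_dvd_iff_pow_eq_one, ← inv_inv c, inv_inv c⁻¹, ord_conj] at e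
  rcases (p1.dvd_mul).1 e with k | k
  · exact (Nat.prime_dvd_prime_iff_eq p1 (by norm_num)).1 (((p1.dvd_mul (m := 12) (n := 5)).1 k).resolve_left
      fun k => by
        have := Nat.le_of_dvd (by norm_num) k
        interval_cases orderOf g <;> simp_all (config := {decide := true}))
  · have := Nat.le_of_dvd (by norm_num) (p1.dvd_of_dvd_pow k)
    omega

theorem Z_eq (h1 : ¬ Q ≤ zpowers t) : OZ S ≤ zpowers t := fun z hz => by
  by_contra k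
  have k' := not_or.1 (mt (PC.mem_zp h.tt).2 k)
  obtain ⟨n, n1, rfl⟩ := h.fuse h.sS hz k'.1
  obtain ⟨w, w1, w2⟩ := h.thr
  have hw := h.of h.ot w2 w1.2
  have k1 := hw.card_eq_eight h.sS.pgroup h.tZ.1.1 h.SC le_rfl w1.1
    (fun e => k'.2 (conj_fix (e n1))) (h.sylG h.sS) (le_inf (le_norm S) h.SC) fun g g1 p1 p5 s hs g2 => by
      have g5 := h.h5 p1 p5 hs g2
      have m5 := card_mod5 g5 (norm_OZ le_rfl g1)
      have m3 := hw.mod3 (pg_sq OZ_sq) h.tZ (OZ_le.trans h.SC) (norm_OZ le_rfl w1.1)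
      obtain ⟨j, e⟩ := (pg_sq (OZ_sq (R := S))).exists_card_eq
      obtain ⟨v, v1, v2⟩ := exists_ne_one (A := OZ S ⊓ 𝐂[g]) fun e' => by
        rw [e', card_bot] at m5
        have : ∀ j : ℕ, 2 ^ j % 15 = 1 ∨ 2 ^ j % 15 = 2 ∨ 2 ^ j % 15 = 4 ∨ 2 ^ j % 15 = 8 := fun j => by
          induction j with
          | zero => simp
          | succ j ih => omega
        have := this j
        omega
      obtain ⟨m, m1, rfl⟩ := h.fuse h.sS v1.1 v2
      refine h.n5 (m⁻¹ * g * m⁻¹⁻¹) (mem_inf.2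
        ⟨mul_mem (mul_mem (inv_mem m1) g1) (inv_mem (inv_mem m1)), ?_⟩)
        ((ord_conj _ g).trans g5)
      rw [inv_inv, ← Transfer.mem_conj, conj_cent1]
      exact mem_cent1_symm v1.2
  have := h.idx
  exact h1 (eq_of_le_of_card_le (zpowers_le.2 h.tQ) (by rw [Nat.card_zpowers, h.ot]; omega)).ge

theorem small (hU : U ≤ Q) (tU : t ∈ U) (hn : 𝐂[t] ≤ 𝐍(U)) (hc : Nat.card U ≤ 16) :
    U ≤ zpowers t := by
  by_contra k
  obtain ⟨a, a1, a2⟩ := SetLike.not_le_iff_exists.1 k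
  have a3 := not_or.1 (mt (PC.mem_zp h.tt).2 a2)
  have U2 := pgroup_of_le h.Q2 hU
  have k1 := h.eight_le U2 tU (hU.trans h.QC) (hn h.yC) a1 a3.1 a3.2
  have k2 := h.mod3 U2 tU (hU.trans h.QC) (hn h.yC)
  have k3 := pw_cases U2.exists_card_eq
  obtain ⟨f, f1, f2⟩ := h.five
  have k4 := card_mod5 f2 (hn f1)
  have k5 := pw_cases (pgroup_of_le U2 (inf_le_left : U ⊓ 𝐂[f] ≤ U)).exists_card_eq
  have k6 := card_le_of_le (inf_le_left : U ⊓ 𝐂[f] ≤ U)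
  have k7 := eq_of_le_of_card_le (inf_le_left : U ⊓ 𝐂[f] ≤ U) (by omega)
  obtain ⟨n, e⟩ := pw_of_mem h.Q2 (h.cent_le hU hn k f1 (le_cent1_iff.1 (k7.ge.trans inf_le_right)))
  rw [← orderOf_dvd_iff_pow_eq_one, f2] at e
  exact absurd (Nat.Prime.dvd_of_dvd_pow (by norm_num) e) (by norm_num)

theorem Q_le : Q ≤ zpowers t := by
  by_contra h1
  have i := h.idx
  have q0 : 0 < Nat.card Q := Nat.card_pos
  obtain ⟨x, x1, x2, x3, x4⟩ := PGroup.exists_mem_normalizer_of_lt h.sS.pgroup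
    (lt_of_le_of_ne h.QS fun e => by rw [e] at i q0; omega)
  have c1 := card_sup_zp x4 x2 (sq x ▸ x3)
  have z1 := card_le_of_le (h.Z_eq h1)
  rw [Nat.card_zpowers, h.ot] at z1
  have hA := h.small OZ_le (h.Z_le h1 h.tZ) (norm_OZ h.nQ) (card_OZ_le le_sup_left c1.le
    (card_OZ_le (sup_le h.QS (zpowers_le.2 x1)) (by omega) z1 fun e => by rw [e] at c1; omega)
    fun e => by rw [← e] at c1; omega)
  have es := h.es hA h.cm h1
  obtain ⟨u, hu⟩ := h.exists_u h1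
  obtain ⟨g, e⟩ := isConj_iff.1 (h.one t u h.ot hu.ou)
  have c2 := card_le_cm fun q hq => hu.nu q (h.QS hq)
  rw [Nat.card_zpowers, h.ot] at c2
  have n1 : 𝐂[u] ≤ 𝐍(g ⋆ Q) := by rw [← e, ← conj_cent1]; exact map_norm _ h.nQ
  have l1 : g ⋆ Q ≤ 𝐂[u] := by rw [← e, ← conj_cent1]; exact Transfer.conj_mono g h.QC
  have c3 := (h.sylG h.sS).card_le (((pgroup_conj g).2 h.Q2).to_sup_of_normal_left'
    (pgroup_of_le h.Q2 inf_le_left) ((inf_le_right : Q ⊓ 𝐂[u] ≤ _).trans n1)) le_top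
  have c4 := card_mul_le (le_sup_left : g ⋆ Q ≤ g ⋆ Q ⊔ Q ⊓ 𝐂[u]) le_sup_right
  rw [Transfer.card_conj] at c4
  have c5 := es_ab es (inf_le_right.trans inf_le_left : g ⋆ Q ⊓ (Q ⊓ 𝐂[u]) ≤ Q)
    (le_cent_iff.2 fun a ha b hb => cm_one.1 <| ((PC.mem_zp hu.uu).1 (by
      rw [← e, ← Transfer.conj_zpowers]
      exact Transfer.conj_mono g h.cm (Transfer.conj_commutator g Q Q ▸
        commutator_mem_commutator ha.1 hb.1))).resolve_right
      fun k => hu.u_nm (k ▸ h.cm (commutator_mem_commutator ha.2.1 hb.2.1)))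
  have c6 := es_ab es hu.U_le (le_cent_iff.2 fun _ ha _ hb => sq_comm hu.U_sq ha hb)
  set r := Nat.card ↥(g ⋆ Q ⊓ (Q ⊓ 𝐂[u]))
  have c7 : Nat.card Q ≤ 8 * r := by nlinarith
  have c8 : r ≤ 16 := by nlinarith
  exact hu.u_nm (h.small hu.U_le t_mem_UU norm_UU (by nlinarith) u_mem_UU)

end Sb

end Cfsg.Lib.Six
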