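import Cfsg.Agent.Lib.Six.St
import Cfsg.Agent.Lib.Extraspecial.Hall

/-! The soluble case with cyclic centre: `Q` is extraspecial of order `32`. -/

set_option autoImplicit false

namespace Cfsg.Lib.Six

open Subgroup Cfsg.Lib.BG Cfsg.Lib.FGS Cfsg.Lib.SR Cfsg.Lib.Harada
open scoped Cfsg.Lib.Transfer Pointwise commutatorElement

variable {G : Type*} [Group G] {t y s u v w g a b c d q r x x' z : G} {Q R S : Subgroup G} {n : ℕ}

def Adj (t u x v : G) : Prop := ∃ g, x = g * t * g⁻¹ ∧ v = g * u * g⁻¹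

theorem Adj.conj (h : Adj t u x v) (g : G) : Adj t u (g * x * g⁻¹) (g * v * g⁻¹) := by
  obtain ⟨c, rfl, rfl⟩ := h
  exact ⟨g * c, by group, by group⟩

theorem adj_t : Adj t u t v ↔ ∃ g ∈ 𝐂[t], v = g * u * g⁻¹ :=
  exists_congr fun _ => and_congr_left' ⟨fun e => S14.mem_cent1_of_conj_eq e.symm,
    fun e => (conj_fix e).symm⟩

theorem adj_tu : Adj t u t u := ⟨1, by simp, by simp⟩

def W (t u x : G) : Subgroup G := closure {v | Adj t u x v}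

theorem Adj.mem (h : Adj t u x v) : v ∈ W t u x := subset_closure h

theorem conj_W_le (g : G) : g ⋆ W t u x ≤ W t u (g * x * g⁻¹) :=
  Transfer.conj_le_iff_le_inv_conj.2 ((closure_le _).2 fun _ hv => by
    rw [SetLike.mem_coe, Transfer.mem_conj, inv_inv]; exact (Adj.conj hv g).mem)

theorem conj_W (g : G) : g ⋆ W t u x = W t u (g * x * g⁻¹) :=
  le_antisymm (conj_W_le g) (Transfer.le_conj_iff_inv_conj_le.2 ((conj_W_le g⁻¹).trans_eq
    (by congr 1; group)))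

theorem norm_W : 𝐂[x] ≤ 𝐍(W t u x) := fun g hg => norm_of_conj_eq (by rw [conj_W, conj_fix hg])

def Cm (t u x x' : G) : Prop := W t u x ≤ 𝐂(W t u x')

theorem Cm.of (h : ∀ a b, Adj t u x a → Adj t u x' b → a ∈ 𝐂[b]) : Cm t u x x' :=
  (closure_le _).2 fun a ha => le_cent1_iff.1
    ((closure_le _).2 fun b hb => mem_cent1_symm (h a b ha hb))

theorem Cm.conj (h : Cm t u x x') (g : G) : Cm t u (g * x * g⁻¹) (g * x' * g⁻¹) := by
  rw [Cm, ← conj_W, ← conj_W]; exact map_cent _ h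

/-- Walks of length `n`. -/
def D (t u : G) : ℕ → G → G → Prop
  | 0 => Eq
  | n + 1 => fun x z => ∃ v, Adj t u x v ∧ D t u n v z

theorem D.succ' (h : D t u (n + 1) x z) : ∃ v, D t u n x v ∧ Adj t u v z := by
  induction n generalizing x with
  | zero => obtain ⟨v, h1, rfl⟩ := h; exact ⟨x, rfl, h1⟩
  | succ n ih =>
    obtain ⟨v, h1, h2⟩ := h
    obtain ⟨v', h3, h4⟩ := ih h2
    exact ⟨v', ⟨v, h1, h3⟩, h4⟩

theorem D.of (h : Relation.ReflTransGen (Adj t u) x z) : ∃ n, D t u n x z := by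
  induction h using Relation.ReflTransGen.head_induction_on with
  | refl => exact ⟨0, rfl⟩
  | head h1 _ ih => exact ⟨ih.choose + 1, _, h1, ih.choose_spec⟩

theorem conn_conj (h : Relation.ReflTransGen (Adj t u) x z) (g : G) :
    Relation.ReflTransGen (Adj t u) (g * x * g⁻¹) (g * z * g⁻¹) :=
  h.lift (fun x => g * x * g⁻¹) fun _ _ k => k.conj g

theorem mem_stab1 {T : Subgroup G} : a ∈ PGroup.commStab T {b} ↔ a ∈ 𝐍(T) ∧ ⁅a, b⁆ ∈ T := by
  simp [PGroup.mem_commStab]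

variable [Finite G]

theorem St.sq_mem (h : St t y Q S) (hA : OZ Q ≤ zpowers t) (hc : ⁅Q, Q⁆ ≤ zpowers t) (hq : q ∈ Q) :
    q ^ 2 ∈ zpowers t := by
  refine h.center_eq hA ⟨pow_mem hq 2, mem_cent.2 fun x hx => (cm_one.1 ?_).symm⟩
  have k := hc (commutator_mem_commutator hq hx)
  calc ⁅q ^ 2, x⁆ = q * ⁅q, x⁆ * q⁻¹ * ⁅q, x⁆ := by simp only [cdef, sq]; group
    _ = 1 := by rw [conj_fix (cent_le_cent1 k (cent_zpowers t ▸ h.QC hq)), PC.zp_sq h.tt _ k]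

theorem St.es (h : St t y Q S) (hA : OZ Q ≤ zpowers t) (hc : ⁅Q, Q⁆ ≤ zpowers t)
    (h1 : ¬ Q ≤ zpowers t) : IsExtraspecial 2 Q :=
  ES.isExtraspecial_of_card h.Q2 (by rw [Nat.card_zpowers, h.ot]) (le_antisymm (h.center_eq hA)
    (zpowers_le.2 (mem_inf.2 ⟨h.tQ, le_cent1_iff.1 h.QC⟩))) hc (fun _ => h.sq_mem hA hc)
    fun e => h1 e.le

theorem St.cm_mod (h : St t y Q S) (hg : g ∈ 𝐂[t]) (g3 : g ^ 3 = 1) (ha : a ∈ Q) :
    ⁅g * a * g⁻¹, a⁆ ∈ zpowers t := by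
  by_cases g1 : g = 1
  · simp [g1]
  have nq : ∀ i : ℕ, i.Coprime 3 → g ^ i ∉ Q := fun i hi k => by
    obtain ⟨n, e⟩ := pw_of_mem h.Q2 (Inv.mem_of_pow_mem_of_pow_mem k (g3 ▸ one_mem Q) hi)
    exact g1 (eq_one_of_pw g3 e (co32 n))
  have a' := conj_mem_of_norm' (h.nQ hg) ha
  have k1 := h.trip hg (g3 ▸ one_mem Q) (pow_one g ▸ nq 1 (by norm_num)) a'
  have k2 := h.trip (pow_mem hg 2) (by rw [← pow_mul, pow_mul', g3, one_pow]; exact one_mem _)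
    (nq 2 (by norm_num)) a'
  have e : g ^ 2 * g ^ 2 = g := by rw [← pow_add, pow_succ, g3, one_mul]
  rw [e] at k2
  convert conj_mem_of_norm' (PC.cent1_le_norm t (h.QC a')) (mul_mem k2 (inv_mem k1)) using 1
  rw [cdef, sq]; group

structure Sg (t y u : G) (Q S : Subgroup G) : Prop extends Sa t y Q S, Su t y u Q S where
  hZ : OZ S ≤ zpowers t

namespace Sg

variable (h : Sg t y u Q S)
include h

theorem cent_S (hq : q ∈ S) (q1 : q ∉ R) (hR : R ≤ S) (hc : Nat.card S ≤ 2 * Nat.card R) :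
    Nat.card (OZ R) ≤ 4 := by
  have k1 := card_le_cm (X := OZ R) fun c hc' => Fix4.cm_fix OZ_sq
    (norm_OZ (norm_two hR hc) hq) (cent_symm OZ_cent (not_mul hR hc hq hq q1 q1)) hc'
  have k2 : OZ R ⊓ 𝐂[q] ≤ zpowers t := fun v hv => h.hZ ⟨⟨hR hv.1.1.1, le_cent1_iff.1 fun s hs => by
    by_cases k : s ∈ R
    · exact le_cent1_iff.2 hv.1.1.2 k
    · exact (mul_mem_cancel_right (mem_cent1_symm hv.2)).1
        (le_cent1_iff.2 hv.1.1.2 (not_mul hR hc hs hq k q1))⟩, hv.1.2⟩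
  have := card_le_of_le k2
  rw [Nat.card_zpowers, h.ot] at this
  nlinarith

theorem hA : OZ Q ≤ zpowers t := fun a ha => by
  by_cases e : Q = S
  · exact h.hZ (e ▸ ha)
  obtain ⟨b, b1, b2⟩ := SetLike.exists_of_lt (lt_of_le_of_ne h.QS e)
  by_contra k
  have k' := not_or.1 (mt (PC.mem_zp h.tt).2 k)
  have := h.eight_le (pg_sq OZ_sq) (h.Z_le h.toSa.nle h.tZ) (OZ_le.trans h.QC)
    (norm_OZ h.nQ h.yC) ha k'.1 k'.2
  have := h.cent_S b1 b2 h.QS h.idx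
  omega

theorem exists_q : ∃ q ∈ Q, q * u * q⁻¹ = t * u := by
  obtain ⟨q, q1, q2⟩ := SetLike.not_le_iff_exists.1 fun k : Q ≤ 𝐂[u] =>
    h.toSu.u_nm (h.hA ⟨⟨h.uQ, le_cent1_iff.1 k⟩, h.toSu.uu⟩)
  refine ⟨q, q1, ?_⟩
  rw [← ((PC.mem_zp h.tt).1 (h.nu q (h.QS q1))).resolve_left fun e => q2 (cent1_of_cm e), cdef]
  group

theorem adj_mul (hv : Adj t u t v) (hc : c ∈ zpowers t) : Adj t u t (c * v) := by
  rcases (PC.mem_zp h.tt).1 hc with rfl | rfl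
  · rwa [one_mul]
  obtain ⟨g, g1, rfl⟩ := adj_t.1 hv
  obtain ⟨q, q1, q2⟩ := h.exists_q
  refine adj_t.2 ⟨g * q, mul_mem g1 (h.QC q1), ?_⟩
  rw [← mul_assoc, ← mul_assoc, ← mem_cent1.1 g1, mul_assoc g, ← q2]; group

theorem W_t : W t u t = UU t u := by
  refine le_antisymm (closure_mono fun v hv => .inr (adj_t.1 hv)) ((closure_le _).2 ?_)
  rintro x (rfl | hx)
  · exact (mul_mem_cancel_right adj_tu.mem).1 (h.adj_mul adj_tu (mem_zpowers x)).mem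
  · exact (adj_t.2 hx).mem

theorem card_V : Nat.card ↥(zpowers t ⊔ zpowers u) = 4 := by
  rw [card_sup_zp (PC.cent1_le_norm t (h.QC h.uQ)) h.toSu.u_nm (h.toSu.uu ▸ one_mem _),
    Nat.card_zpowers, h.ot]

omit [Finite G] h in
theorem V_le : zpowers t ⊔ zpowers u ≤ UU t u :=
  sup_le (zpowers_le.2 t_mem_UU) (zpowers_le.2 u_mem_UU)

theorem U_le' : UU t u ≤ zpowers t ⊔ zpowers u ⊔ zpowers (y * u * y⁻¹) := by
  have k0 : zpowers t ≤ zpowers t ⊔ zpowers u ⊔ zpowers (y * u * y⁻¹) := le_sup_of_le_left le_sup_left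
  have k1 := mem_sup_left (T := zpowers (y * u * y⁻¹)) (mem_sup_right (S := zpowers t) (mem_zpowers u))
  have k2 := mem_sup_right (S := zpowers t ⊔ zpowers u) (mem_zpowers (y * u * y⁻¹))
  refine (closure_le _).2 ?_
  rintro x (rfl | ⟨g, hg, rfl⟩)
  · exact k0 (mem_zpowers x)
  obtain ⟨s, s1, s2⟩ := h.ca g hg
  rw [show g * u * g⁻¹ = g * s * ⁅s⁻¹, u⁆ * (g * s)⁻¹ * (g * s * u * (g * s)⁻¹) by rw [cdef]; group]
  refine mul_mem (k0 (conj_mem_of_norm (PC.cent1_le_norm t (mul_mem hg (h.SC s1)))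
    (h.nu _ (inv_mem s1)))) ?_
  rcases s2 with e | e | e <;> rw [e]
  · simpa using k1
  · exact k2
  · exact (mul_mem_cancel_left (mul_mem k1 k2)).1
      (k0 (h.trip h.yC (OddChar.cube_of_orderOf h.oy ▸ one_mem Q) h.yQ h.uQ))

theorem uy_norm : y * u * y⁻¹ ∈ 𝐍(zpowers t ⊔ zpowers u) :=
  cent_le_norm _ (mem_cent.2 fun _ hv => sq_comm h.toSu.U_sq (V_le hv) (conj_mem_UU h.yC))

theorem card_U : Nat.card (UU t u) ≤ 8 :=
  (card_le_of_le h.U_le').trans ((card_le_two_mul (s := (y * u * y⁻¹)⁻¹) fun g hg => by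
    rw [inv_inv, sq_comm h.toSu.U_sq (conj_mem_UU h.yC)
      (sup_le V_le (zpowers_le.2 (conj_mem_UU h.yC)) hg),
      ← inv_self (h.toSu.U_sq _ (conj_mem_UU h.yC))]
    exact (mem_sup_zp h.uy_norm (h.toSu.U_sq _ (conj_mem_UU h.yC) ▸ one_mem _)).1 hg).trans
      (by rw [h.card_V]))

theorem mem_U (hv : v ∈ UU t u) : v ∈ zpowers t ∨ Adj t u t v := by
  have V : ∀ v ∈ zpowers t ⊔ zpowers u, v ∈ zpowers t ∨ v * u⁻¹ ∈ zpowers t := fun v hv =>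
    (mem_sup_zp (PC.cent1_le_norm t (h.QC h.uQ)) (h.toSu.uu ▸ one_mem _)).1 hv
  rcases (mem_sup_zp h.uy_norm (h.toSu.U_sq _ (conj_mem_UU h.yC) ▸ one_mem _)).1 (h.U_le' hv)
    with k | k
  · exact (V v k).imp_right fun k => by simpa using h.adj_mul adj_tu k
  right
  rcases V _ k with k | k
  · exact inv_mul_cancel_right v _ ▸ h.adj_mul (adj_t.2 ⟨y, h.yC, rfl⟩) k
  have k1 := h.trip h.yC (OddChar.cube_of_orderOf h.oy ▸ one_mem Q) h.yQ h.uQ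
  convert h.adj_mul (adj_t.2 ⟨y * y, mul_mem h.yC h.yC, rfl⟩) (mul_mem k k1) using 1
  rw [mul_assoc, mul_assoc (u * _), h.toSu.U_sq _ (conj_mem_UU (mul_mem h.yC h.yC))]
  group

theorem mem_W (hx : Adj t u x x') (hv : v ∈ W t u x) : v = 1 ∨ v = x ∨ Adj t u x v := by
  obtain ⟨g, rfl, -⟩ := hx
  rw [← conj_W, h.W_t] at hv
  obtain ⟨v, v1, rfl⟩ := hv
  rcases h.mem_U v1 with k | k
  · rcases (PC.mem_zp h.tt).1 k with rfl | rfl
    exacts [.inl (map_one _), .inr (.inl rfl)]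
  · exact .inr (.inr (k.conj g))

theorem adj_ut : Adj t u u t := by
  obtain ⟨q, q1, q2⟩ := h.exists_q
  have qu : q ∉ S ⊓ 𝐂[u] := fun k => h.t1 (mul_eq_right.1 (q2.symm.trans (conj_fix k.2)))
  have c1 := card_le_cm h.nu
  rw [Nat.card_zpowers, h.ot, mul_comm] at c1
  obtain ⟨T, hT, T1⟩ := Syl.exists_ge (pgroup_of_le h.sS.pgroup inf_le_left)
    (inf_le_right : S ⊓ 𝐂[u] ≤ _)
  obtain ⟨g, e⟩ := isConj_iff.1 (h.one t u h.ot h.ou)
  have hu := e ▸ h.toHy.conj g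
  have c2 := (hu.sylG hT).card_eq (h.sylG h.sS)
  obtain ⟨p, p1, p2⟩ := SetLike.not_le_iff_exists.1 fun k : T ≤ 𝐂[t] => by
    obtain ⟨c, c3, c4⟩ := h.sS.exists_conj_eq ((hu.sylG hT).of_le k le_top)
    have uS : c⁻¹ * u * c ∈ 𝐂(S) := mem_cent.2 fun s hs => by
      have := mem_cent1.1 (hT.le (c4 ▸ Transfer.conj_mem_conj.2 hs))
      calc s * (c⁻¹ * u * c) = c⁻¹ * (c * s * c⁻¹ * u) * c := by group
        _ = _ := by rw [this]; group
    have := conj_mem_of_norm (PC.cent1_le_norm t c3) (h.hZ ⟨⟨h.QS (conj_mem_of_norm' (h.nQ c3) h.uQ),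
      uS⟩, h.toSu.U_sq _ (conj_mem_of_norm' (norm_UU c3) u_mem_UU)⟩)
    exact h.toSu.u_nm (by convert this using 1; group)
  have V : zpowers t ⊔ zpowers u = OZ (S ⊓ 𝐂[u]) := eq_of_le_of_card_le (sup_le (zpowers_le.2
    ⟨⟨⟨h.QS h.tQ, mem_cent1_symm (h.QC h.uQ)⟩, cent_anti inf_le_left h.tZ.1.2⟩, h.tt⟩) (zpowers_le.2
    ⟨⟨⟨h.QS h.uQ, self_mem_cent1 u⟩, le_cent1_iff.1 inf_le_right⟩, h.toSu.uu⟩))
    (h.card_V ▸ h.cent_S (h.QS q1) qu inf_le_left c1)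
  have k := conj_mem_of_norm (norm_OZ (norm_two T1 (c2 ▸ c1)) p1)
    (V ▸ mem_sup_left (mem_zpowers t))
  rw [← V, mem_sup_zp (PC.cent1_le_norm t (h.QC h.uQ)) (h.toSu.uu ▸ one_mem _), PC.mem_zp h.tt,
    PC.mem_zp h.tt] at k
  have pu := conj_fix (hT.le p1)
  have qt := conj_fix (h.QC q1)
  rcases k with (k | k) | k | k
  · exact absurd (conj_eq_one_iff.1 k) h.t1
  · exact absurd (S14.mem_cent1_of_conj_eq k) p2
  · exact absurd (mul_left_cancel (mul_right_cancel (pu.trans (mul_inv_eq_one.1 k).symm))) h.ut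
  rw [mul_inv_eq_iff_eq_mul] at k
  refine ⟨q * p * q, Eq.symm ?_, Eq.symm ?_⟩
  · calc _ = q * (p * (q * t * q⁻¹) * p⁻¹) * q⁻¹ := by group
      _ = u := by rw [qt, k, ← conj_mul, qt, q2, ← mul_assoc, h.tt, one_mul]
  · calc _ = q * (p * (q * u * q⁻¹) * p⁻¹) * q⁻¹ := by group
      _ = t := by rw [q2, ← conj_mul (b := p), pu, k, mul_assoc t, h.toSu.uu, mul_one, qt]

theorem symm (k : Adj t u x v) : Adj t u v x := by
  obtain ⟨g, rfl, rfl⟩ := k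
  exact h.adj_ut.conj g

theorem cm0 (k : Adj t u x v) : Cm t u x x := by
  obtain ⟨g, rfl, -⟩ := k
  refine Cm.conj ?_ g
  rw [Cm, h.W_t]
  exact le_cent_iff.2 fun _ hx _ hy => sq_comm h.toSu.U_sq hx hy

theorem cm_U (hq : q ∈ Q) (ha : a ∈ UU t u) : ⁅q, a⁆ ∈ zpowers t := by
  rcases h.mem_U ha with k | k
  · exact cm_one.2 (mem_cent.1 (cent_zpowers t ▸ h.QC hq) a k).symm ▸ one_mem _
  obtain ⟨g, g1, rfl⟩ := adj_t.1 k
  convert conj_mem_of_norm (PC.cent1_le_norm t g1)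
    (h.nu _ (h.QS (conj_mem_of_norm' (h.nQ g1) hq))) using 1
  simp only [cdef]; group

theorem V_W : zpowers t ⊔ zpowers u ≤ W t u u ∧
    Nat.card (W t u u) ≤ 2 * Nat.card ↥(zpowers t ⊔ zpowers u) := by
  obtain ⟨p, p1, p2⟩ := h.adj_ut
  have e : W t u u = p ⋆ UU t u := by rw [← h.W_t, conj_W, ← p1]
  refine ⟨sup_le (zpowers_le.2 h.adj_ut.mem) (zpowers_le.2 ?_), ?_⟩
  · have k : p * t * p⁻¹ ∈ p ⋆ UU t u := Transfer.conj_mem_conj.2 t_mem_UU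
    rwa [← p1, ← e] at k
  · rw [e, Transfer.card_conj, h.card_V]; exact h.card_U

theorem caseX (hb : Adj t u u b) (bQ : b ∉ Q) : Nat.card Q ≤ 32 := by
  have bC : b ∈ 𝐂[t] := cent_le_cent1 (Adj.mem h.adj_ut) (h.cm0 h.adj_ut hb.mem)
  have b2 : b * b = 1 := by
    obtain ⟨g, -, rfl⟩ := hb
    rw [conj_mul, h.toSu.uu, mul_one, mul_inv_cancel]
  have c1 := card_le_cm fun q hq => h.nu q (h.QS hq)
  rw [Nat.card_zpowers, h.ot] at c1
  have l : ∀ d ∈ Q ⊓ 𝐂[u], ⁅d, b⁆ ∈ zpowers t ⊔ zpowers u := fun d hd =>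
    commutatorElement_inv b d ▸ inv_mem (cm_two h.V_W.1 h.V_W.2 (norm_W hd.2) (cent_le_norm _
      (by rw [cent_sup, cent_zpowers, cent_zpowers]; exact ⟨h.QC hd.1, hd.2⟩)) hb.mem)
  set F := Q ⊓ PGroup.commStab (zpowers t) {b}
  have mF : ∀ d ∈ Q, ⁅d, b⁆ ∈ zpowers t → d ∈ F := fun d hd e =>
    ⟨hd, mem_stab1.2 ⟨PC.cent1_le_norm t (h.QC hd), e⟩⟩
  have c2 : Nat.card ↥(Q ⊓ 𝐂[u]) ≤ 2 * Nat.card F := by
    by_cases k : Q ⊓ 𝐂[u] ≤ F
    · have := card_le_of_le k; omega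
    obtain ⟨s, s1, s2⟩ := SetLike.not_le_iff_exists.1 k
    refine card_le_two_mul (s := s) fun d hd => or_iff_not_imp_left.2 fun k =>
      mF _ (mul_mem (inv_mem s1.1) hd.1) ?_
    convert conj_mem_of_norm' (PC.cent1_le_norm t (h.QC s1.1)) (not_mul le_sup_left
      (by rw [h.card_V, Nat.card_zpowers, h.ot]) (l d hd) (inv_mem (l s s1)) (fun e => k (mF d hd.1 e))
      fun e => s2 (mF s s1.1 (inv_mem_iff.1 e))) using 1
    simp only [cdef]; group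
  have c3 := card_mul_le (inf_le_left : F ≤ Q) (conj_le_of_norm (inf_le_left : F ≤ Q) (h.nQ h.yC))
  have c4 : F ⊓ y ⋆ F ≤ zpowers t := fun v hv => by
    have b3 := h.bb b bC bQ (b2 ▸ one_mem Q)
    have yb := mul_mem (mul_mem h.yC bC) (inv_mem h.yC)
    refine h.fix_mod (mul_mem bC yb) b3.1 b3.2 hv.1.1 (mem_stab1.1 (mul_mem
      (mem_stab1.2 ⟨PC.cent1_le_norm t bC, ?_⟩) (mem_stab1.2 ⟨PC.cent1_le_norm t yb, ?_⟩))).2
    · exact commutatorElement_inv v b ▸ inv_mem (mem_stab1.1 hv.1.2).2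
    · obtain ⟨v', v1, rfl⟩ := hv.2
      exact cm_conj y b v' ▸ conj_mem_of_norm (PC.cent1_le_norm t h.yC)
        (commutatorElement_inv v' b ▸ inv_mem (mem_stab1.1 v1.2).2)
  have c5 := card_le_of_le c4
  rw [Nat.card_zpowers, h.ot] at c5
  rw [Transfer.card_conj] at c3
  nlinarith

variable (hY : ∀ b, Adj t u u b → b ∈ Q)
include hY

theorem cm1 (k : Adj t u x x') : Cm t u x x' := by
  obtain ⟨g, rfl, rfl⟩ := k
  refine (Cm.of fun a b ha hb => cent1_of_cm ?_).conj g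
  obtain ⟨p, p1, p2⟩ := h.adj_ut
  have k1 := commutatorElement_inv b a ▸ inv_mem (h.cm_U (hY b hb) (h.W_t ▸ ha.mem))
  have k3 := ha.conj p
  have k4 := hb.conj p
  rw [← p1] at k3
  rw [← p2] at k4
  have k2 := h.cm_U (hY _ k3) (h.W_t ▸ k4.mem)
  rw [← cm_conj, PC.mem_zp h.tt, conj_eq_one_iff] at k2
  refine k2.resolve_right fun e => h.toSu.u_nm ?_
  rwa [← mul_left_cancel (mul_right_cancel (e.trans p2))]

theorem cm2 (k : Adj t u x r) (k' : Adj t u r x') : Cm t u x x' := by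
  obtain ⟨c, rfl, rfl⟩ := h.symm k
  obtain ⟨x', rfl⟩ : ∃ z, x' = c * z * c⁻¹ := ⟨c⁻¹ * x' * c, by group⟩
  refine Cm.conj ?_ c
  replace k' : Adj t u t x' := by convert k'.conj c⁻¹ using 1 <;> group
  obtain ⟨g, g1, rfl⟩ := adj_t.1 k'
  obtain ⟨w, w1, w3, e⟩ : ∃ w ∈ 𝐂[t], w ^ 3 ∈ Q ∧ g * u * g⁻¹ = w * u * w⁻¹ := by
    obtain ⟨s, s1, s2⟩ := h.cos g g1
    have gs := mul_mem g1 (h.SC s1)
    rcases (PC.mem_zp h.tt).1 (h.nu _ (inv_mem s1)) with e | e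
    · refine ⟨_, gs, s2, ?_⟩
      calc _ = g * s * (⁅s⁻¹, u⁆ * u) * (g * s)⁻¹ := by rw [cdef]; group
        _ = _ := by rw [e, one_mul]
    obtain ⟨q, q1, q2⟩ := h.exists_q
    have q3 := conj_mem_of_norm (h.nQ gs) q1
    refine ⟨_, mul_mem (h.QC q3) gs, ?_, ?_⟩
    · rw [OddChar.mul_cube_eq]
      exact mul_mem (mul_mem (mul_mem q3 (conj_mem_of_norm (h.nQ gs) q3))
        (conj_mem_of_norm (h.nQ (mul_mem gs gs)) q3)) s2
    · calc _ = g * s * (⁅s⁻¹, u⁆ * u) * (g * s)⁻¹ := by rw [cdef]; group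
        _ = _ := by rw [e, ← q2]; group
  rw [e] at k' ⊢
  by_cases wQ : w ∈ Q
  · rcases (PC.mem_zp h.tt).1 (h.nu _ (h.QS wQ)) with e | e
    · rw [conj_fix (cent1_of_cm e)]; exact h.cm0 h.adj_ut
    · obtain ⟨p, p1, p2⟩ := h.adj_ut
      refine h.cm1 hY ?_
      have := (h.adj_mul adj_tu (mem_zpowers t)).conj p
      rw [← conj_mul, ← p1, ← p2, mem_cent1.1 (h.QC h.uQ)] at this
      rwa [show w * u * w⁻¹ = ⁅w, u⁆ * u by rw [cdef]; group, e]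
  refine Cm.of fun a b ha hb => ?_
  by_cases aV : a ∈ zpowers t ⊔ zpowers u
  · exact cent_le_cent1 hb.mem (h.cm1 hY k' (h.W_t ▸ V_le aV))
  have aU : ∀ v ∈ zpowers t ⊔ zpowers u, w * v * w⁻¹ ∈ 𝐂[a] := fun v hv => cent_le_cent1 ha.mem
    (h.cm1 hY adj_tu (h.W_t ▸ conj_mem_of_norm (norm_UU w1) (V_le hv)))
  obtain ⟨b, rfl⟩ : ∃ z, b = w * z * w⁻¹ := ⟨w⁻¹ * b * w, by group⟩
  replace hb : Adj t u u b := by convert hb.conj w⁻¹ using 1 <;> group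
  refine mem_cent1_symm ?_
  by_cases bV : b ∈ zpowers t ⊔ zpowers u
  · exact aU b bV
  have a2 : a * a = 1 := by
    obtain ⟨g, -, rfl⟩ := ha
    rw [conj_mul, h.toSu.uu, mul_one, mul_inv_cancel]
  rw [show b = a * (a * b) by rw [← mul_assoc, a2, one_mul], ← conj_mul]
  exact mul_mem (h.conj_comm w1 w3 wQ (hY a ha) a2)
    (aU _ (not_mul h.V_W.1 h.V_W.2 ha.mem hb.mem aV bV))

theorem cm_all (k : D t u n x x') (k0 : Adj t u x v) : Cm t u x x' := by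
  induction n generalizing x x' v with
  | zero => obtain rfl := k; exact h.cm0 k0
  | succ n ih =>
    obtain ⟨z, z1, z2⟩ := k.succ'
    obtain ⟨x1, x2, x3⟩ := k
    refine Cm.of fun a b ha hb => cent1_of_cm (by_contra fun r1 => r1 (cm_one.2 (mem_cent.1
      ((show Cm t u x x' from ?_) ha.mem) b hb.mem).symm))
    have r2 := cm_memY (norm_W (mem_cent1_symm (cent_le_cent1 hb.mem
      (ih x3 (h.symm x2) (h.symm x2).mem)))) ha.mem
    have r3 := commutatorElement_inv b a ▸ inv_mem (cm_memY (norm_W (cent_le_cent1 z2.mem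
      (ih z1 k0 ha.mem))) hb.mem)
    rcases (h.mem_W k0 r2).resolve_left r1 with e | e <;>
      rcases (h.mem_W (h.symm z2) r3).resolve_left r1 with e' | e'
    · rw [← e', e]; exact h.cm0 k0
    · exact h.cm1 hY (e ▸ h.symm e')
    · exact h.cm1 hY (e' ▸ e)
    · exact h.cm2 hY e (h.symm e')

theorem caseY : Nat.card Q ≤ 32 := by
  let E := ⨆ x, ⨆ _ : Relation.ReflTransGen (Adj t u) t x, W t u x
  have sy : ∀ {a b}, Relation.ReflTransGen (Adj t u) a b → Relation.ReflTransGen (Adj t u) b a :=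
    fun k => by
      induction k with
      | refl => rfl
      | tail _ b c => exact c.head (h.symm b)
  have EC : E ≤ 𝐂(E) := iSup₂_le fun x hx => cent_symm (iSup₂_le fun x' hx' => by
    obtain ⟨n, k⟩ := D.of ((sy hx').trans hx)
    rcases hx'.cases_tail with rfl | ⟨v, -, k0⟩
    exacts [h.cm_all hY k adj_tu, h.cm_all hY k (h.symm k0)])
  have UE : UU t u ≤ E := h.W_t ▸ le_iSup₂_of_le t .refl le_rfl
  have nE : ∀ g, Relation.ReflTransGen (Adj t u) t (g * t * g⁻¹) → g ∈ 𝐍(𝐂(E)) := fun g hg =>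
    norm_cent le_rfl (Transfer.mem_normalizer_of_conj_le (Transfer.conj_le_iff_le_inv_conj.2
      (iSup₂_le fun x hx => Transfer.conj_le_iff_le_inv_conj.1 ((conj_W_le g).trans
        (le_iSup₂_of_le _ (hg.trans (conn_conj hx g)) le_rfl)))))
  have CC : 𝐂(E) ≤ 𝐂[t] := cent_le_cent1 (UE t_mem_UU)
  obtain ⟨p, p1, -⟩ := h.adj_ut
  have k := h.toSa.ll (pgroup_of_le h.Q2 fun g hg => h.cent_le h.toSu.U_le norm_UU
    (fun k => h.toSu.u_nm (k u_mem_UU)) (CC hg) (cent_anti UE hg)) (EC (UE t_mem_UU))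
    (fun g hg => nE g (by rw [conj_fix hg]))
    (fun k => h.ut (p1.trans (conj_fix (k (nE p (p1 ▸ .single adj_tu)))))) CC
  have e := eq_of_le_of_card_le (UE.trans EC) (k ▸ h.toSu.eight_le_U)
  have c1 := card_le_cm fun q hq => h.nu q (h.QS hq)
  have c2 := card_le_cm (X := Q ⊓ 𝐂[u]) fun q hq => h.cm_U hq.1 (conj_mem_UU h.yC)
  have c3 : Q ⊓ 𝐂[u] ⊓ 𝐂[y * u * y⁻¹] ≤ 𝐂(E) := fun q hq => cent_anti ((EC.trans e.ge).trans h.U_le')
    (by rw [cent_sup, cent_sup, cent_zpowers, cent_zpowers, cent_zpowers]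
        exact ⟨⟨h.QC hq.1.1, hq.1.2⟩, hq.2⟩)
  have := card_le_of_le c3
  rw [Nat.card_zpowers, h.ot] at c1 c2
  omega

omit hY

theorem eq_Q (h1 : UU t u < R) (h2 : R ≤ Q) (h3 : y ∈ 𝐍(R)) : Nat.card R = 32 := by
  have k1 : Nat.card Q ≤ 32 := by
    by_cases k : ∀ b, Adj t u u b → b ∈ Q
    · exact h.caseY k
    · push Not at k
      exact h.caseX k.choose_spec.1 k.choose_spec.2
  have k2 := h.mod3 (pgroup_of_le h.Q2 h2) (h1.le t_mem_UU) (h2.trans h.QC) h3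
  have := pw_cases (pgroup_of_le h.Q2 h2).exists_card_eq
  have := Transfer.card_lt_of_lt h1
  have := card_le_of_le h2
  have := h.toSu.eight_le_U
  omega

theorem not_cent : ¬ Q ≤ 𝐂(UU t u) := fun k =>
  h.toSu.u_nm (h.hA ⟨⟨h.uQ, cent_symm k u_mem_UU⟩, h.toSu.uu⟩)

theorem card_Q : Nat.card Q = 32 :=
  h.eq_Q (lt_of_le_of_ne h.toSu.U_le fun e => h.not_cent (e ▸ h.W_t ▸ h.cm0 adj_tu)) le_rfl
    (h.nQ h.yC)

theorem der_le : ⁅Q, Q⁆ ≤ zpowers t := commutator_le.2 fun a ha q hq => by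
  by_cases k : q ∈ UU t u
  · exact h.cm_U ha k
  have yi : ∀ i : ℕ, y ^ i * q * (y ^ i)⁻¹ ∈ Q := fun i =>
    conj_mem_of_norm (h.nQ (pow_mem h.yC i)) hq
  let X := closure {x | ∃ i : ℕ, x = y ^ i * q * (y ^ i)⁻¹}
  have XQ : UU t u ⊔ X ≤ Q := sup_le h.toSu.U_le ((closure_le _).2 (by rintro _ ⟨i, rfl⟩; exact yi i))
  have e := eq_of_le_of_card_le XQ (h.card_Q.trans (h.eq_Q (lt_of_le_of_ne le_sup_left fun e => k
    (e.ge (mem_sup_right (Subgroup.subset_closure ⟨0, by simp⟩ : q ∈ X)))) XQ (norm_sup (zpowers_le.2 (norm_UU h.yC))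
    (zpowers_le.2 (Transfer.mem_normalizer_of_conj_le (Transfer.conj_le_iff_le_inv_conj.2
      ((closure_le _).2 ?_)))) (mem_zpowers y))).symm).le
  · refine (mem_stab1.1 ((sup_le (fun v hv => mem_stab1.2 ⟨PC.cent1_le_norm t
      (h.QC (h.toSu.U_le hv)), commutatorElement_inv q v ▸ inv_mem (h.cm_U hq hv)⟩)
      ((closure_le _).2 ?_) : UU t u ⊔ X ≤ PGroup.commStab (zpowers t) {q}) (e.ge ha))).2
    rintro _ ⟨i, rfl⟩
    exact mem_stab1.2 ⟨PC.cent1_le_norm t (h.QC (yi i)),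
      h.cm_mod (pow_mem h.yC i) (cube_of_zp h.oy (pow_mem (mem_zpowers y) i)) hq⟩
  · rintro _ ⟨i, rfl⟩
    rw [SetLike.mem_coe, Transfer.mem_conj, inv_inv]
    exact subset_closure ⟨i + 1, by rw [pow_succ']; group⟩

theorem ne_Q : S ≠ Q := fun e => by
  obtain ⟨p, p1, -⟩ := h.adj_ut
  have s1 : Syl 2 (p ⋆ Q) 𝐂[u] := by rw [p1, ← conj_cent1]; exact (e ▸ h.sS).conj p
  have s2 : Q ⊓ 𝐂[u] ≤ p ⋆ Q := s1.ge_of_norm_p' inf_le_right (pgroup_of_le h.Q2 inf_le_left)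
    (inf_le_right.trans (by rw [p1, ← conj_cent1]; exact map_norm _ h.nQ))
  have s3 : ⁅p ⋆ Q, p ⋆ Q⁆ ≤ zpowers u := by
    rw [← Transfer.conj_commutator, p1, ← Transfer.conj_zpowers]; exact Transfer.conj_mono p h.der_le
  have UC : UU t u ≤ 𝐂(UU t u) := h.W_t ▸ h.cm0 adj_tu
  have UD : UU t u ≤ Q ⊓ 𝐂[u] := le_inf h.toSu.U_le (UC.trans (cent_le_cent1 u_mem_UU))
  have s4 : Q ⊓ 𝐂[u] ≤ Q ⊓ 𝐂(UU t u) := fun d hd => ⟨hd.1, mem_cent.2 fun v hv => cm_one.1 <|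
    ((PC.mem_zp h.toSu.uu).1 (s3 (commutator_mem_commutator (s2 (UD hv)) (s2 hd)))).resolve_right
      fun k => h.toSu.u_nm (k ▸ h.der_le (commutator_mem_commutator (UD hv).1 hd.1))⟩
  have c1 := card_le_cm fun q hq => h.nu q (h.QS hq)
  rw [Nat.card_zpowers, h.ot, h.card_Q] at c1
  have c2 := card_le_of_le s4
  have c3 := h.card_U
  have c4 := h.eq_Q (lt_of_le_of_ne (le_inf h.toSu.U_le UC) fun e => by rw [← e] at c2; omega)
    inf_le_left (norm_inf h.nQ (norm_cent norm_UU) h.yC)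
  exact h.not_cent ((eq_of_le_of_card_le inf_le_left (h.card_Q.trans c4.symm).le).ge.trans
    inf_le_right)

end Sg

end Cfsg.Lib.Six
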