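import Cfsg.Agent.Lib.Six.B
import Cfsg.Agent.S3331

/-! The three possibilities for `C(t) / ⟨t⟩`. -/

set_option autoImplicit false

namespace Cfsg.Lib.Six

open Subgroup Cfsg.Lib.BG Cfsg.Lib.FGS Cfsg.Lib.SR Cfsg.Lib.Harada Equiv
open scoped Cfsg.Lib.Transfer Pointwise commutatorElement

variable {G H : Type*} [Group G] [Group H] {t y g : G} {C K Q S : Subgroup G} {φ : C →* H}
  {V : Subgroup H}

/-- The preimage in `G` of a subgroup under a homomorphism defined on `C`. -/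
def Pre (φ : C →* H) (V : Subgroup H) : Subgroup G := (V.comap φ).map C.subtype

theorem mem_Pre (hg : g ∈ C) : g ∈ Pre φ V ↔ φ ⟨g, hg⟩ ∈ V :=
  ⟨fun ⟨_, h, e⟩ => by subst e; exact h, fun h => ⟨_, h, rfl⟩⟩

theorem mem_Pre' (x : C) : (x : G) ∈ Pre φ ⊥ ↔ φ x = 1 := (mem_Pre x.2).trans mem_bot

theorem Pre_le : Pre φ V ≤ C := map_subtype_le _

theorem norm_Pre [Finite G] (hg : g ∈ C) (h : φ ⟨g, hg⟩ ∈ 𝐍(V)) : g ∈ 𝐍(Pre φ V) :=
  Transfer.mem_normalizer_of_conj_le (by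
    rintro _ ⟨_, ⟨x, hx, rfl⟩, rfl⟩
    exact ⟨⟨g, hg⟩ * x * ⟨g, hg⟩⁻¹, by
      rw [SetLike.mem_coe, mem_comap, map_mul, map_mul, map_inv]; exact conj_mem_of_norm h hx, rfl⟩)

theorem norm_Pre' [Finite G] : C ≤ 𝐍(Pre φ ⊥) := fun _ hg =>
  norm_Pre hg (by rw [normalizer_eq_top]; exact mem_top _)

theorem card_Pre (hφ : Function.Surjective φ) : Nat.card (Pre φ V) = Nat.card V * Nat.card (Pre φ ⊥) := by
  rw [Pre, Pre, Core.card_map_subtype, Core.card_map_subtype, Core.card_comap_of_surjective hφ]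
  rfl

theorem Pre_top : Pre φ ⊤ = C := le_antisymm Pre_le fun _ hg => (mem_Pre hg).2 (mem_top _)

variable [Finite G]

theorem Hy.cases (h : Hy t y) :
    (∃ φ : 𝐂[t] →* Perm (Fin 3), Group.IsNilpotent (Pre φ ⊥) ∧ t ∈ Pre φ ⊥ ∧ y ∉ Pre φ ⊥) ∨
    (∃ φ : 𝐂[t] →* alternatingGroup (Fin 5), Function.Surjective φ ∧ t ∈ Pre φ ⊥ ∧
      ⁅Pre φ ⊥, Pre φ ⊥⁆ ≤ zpowers t ∧ ∀ g ∈ Pre φ ⊥, g ^ 2 ∈ zpowers t) ∨
    ∃ φ : 𝐂[t] →* Matrix.ProjectiveSpecialLinearGroup (Fin 2) (ZMod 7), Function.Surjective φ ∧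
      Pre φ ⊥ = zpowers t := by
  let Z := (zpowers t).subgroupOf 𝐂[t]
  have : Z.Normal := (normal_subgroupOf_iff_le_normalizer (zpowers_le.2 (self_mem_cent1 t))).2
    (PC.cent1_le_norm t)
  let π := QuotientGroup.mk' Z
  have hπ : ∀ x : 𝐂[t], π x = 1 ↔ (x : G) ∈ zpowers t := fun x => QuotientGroup.eq_one_iff x
  have sπ : Function.Surjective π := QuotientGroup.mk'_surjective Z
  have y3 := OddChar.cube_of_orderOf h.oy
  have oy : orderOf (π ⟨y, h.yC⟩) = 3 := OddChar.orderOf_eq_three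
    (by rw [← map_pow, hπ, SubgroupClass.coe_pow, y3]; exact one_mem _) fun e => OddChar.ne_one_of_orderOf_three h.oy
      (eq_one_of_pw y3 ((sq y).trans (PC.zp_sq h.tt _ ((hπ _).1 e))) (by norm_num))
  have pt : π ⟨t, self_mem_cent1 t⟩ = 1 := (hπ _).2 (mem_zpowers t)
  have k := Cfsg.Agent.S3331.result (zpowers (π ⟨y, h.yC⟩)) (card_zp3 oy) (le_antisymm (fun x hx => ?_)
    (abelian_cent inferInstance))
  · rcases k with ⟨N, hN, n1, n2, n3⟩ | ⟨N, hN, n1, n2, ⟨e⟩⟩ | ⟨⟨e⟩⟩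
    · obtain ⟨f, hf⟩ : ∃ f : (𝐂[t] ⧸ Z) ⧸ N →* Perm (Fin 3), Function.Injective f := by
        rcases n3 with n3 | ⟨⟨e⟩⟩
        · have : Fact (Nat.Prime 3) := ⟨Nat.prime_three⟩
          let e := mulEquivOfPrimeCardEq n3 (G' := alternatingGroup (Fin 3))
            (by rw [nat_card_alternatingGroup]; simp [Nat.factorial])
          exact ⟨(alternatingGroup (Fin 3)).subtype.comp e, Subtype.val_injective.comp e.injective⟩
        · exact ⟨e, e.injective⟩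
      have m : ∀ x : 𝐂[t], (x : G) ∈ Pre (f.comp ((QuotientGroup.mk' N).comp π)) ⊥ ↔ π x ∈ N :=
        fun x => (mem_Pre' x).trans ((map_eq_one_iff f hf).trans (QuotientGroup.eq_one_iff _))
      refine .inl ⟨_, ?_, (m ⟨t, self_mem_cent1 t⟩).2 (pt ▸ one_mem _), fun e => ?_⟩
      · refine Subgroup.isNilpotent_of_ker_le_center ((π.comp (inclusion Pre_le)).codRestrict N
          fun x => (m _).1 x.2) fun x hx => mem_center_iff.2 fun z => Subtype.ext ?_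
        exact (mem_cent.1 ((cent_zpowers t).ge (Pre_le z.2)) _ ((hπ _).1 (congrArg Subtype.val hx))).symm
      · have := orderOf_dvd_natCard _ ((m ⟨y, h.yC⟩).1 e)
        rw [oy] at this
        exact absurd (Nat.eq_one_of_dvd_coprimes n2 this dvd_rfl) (by norm_num)
    · have m : ∀ x : 𝐂[t], (x : G) ∈ Pre (e.toMonoidHom.comp ((QuotientGroup.mk' N).comp π)) ⊥ ↔
          π x ∈ N := fun x =>
        (mem_Pre' x).trans ((map_eq_one_iff e e.injective).trans (QuotientGroup.eq_one_iff _))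
      refine .inr (.inl ⟨_, e.surjective.comp ((QuotientGroup.mk'_surjective N).comp sπ),
        (m ⟨t, self_mem_cent1 t⟩).2 (pt ▸ one_mem _), commutator_le.2 fun a ha b hb => ?_,
        fun a ha => ?_⟩)
      · refine (hπ ⁅(⟨a, Pre_le ha⟩ : 𝐂[t]), ⟨b, Pre_le hb⟩⁆).1 ?_
        rw [map_commutatorElement, cm_one]
        exact PGroup.isMulCommutative_iff.1 n1 _ ((m ⟨a, _⟩).1 ha) _ ((m ⟨b, _⟩).1 hb)
      · exact (hπ (⟨a, Pre_le ha⟩ ^ 2)).1 ((map_pow _ _ _).trans (n2 _ ((m ⟨a, _⟩).1 ha)))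
    · have m : ∀ x : 𝐂[t], (x : G) ∈ Pre (e.toMonoidHom.comp π) ⊥ ↔ (x : G) ∈ zpowers t := fun x =>
        (mem_Pre' x).trans ((map_eq_one_iff e e.injective).trans (hπ _))
      exact .inr (.inr ⟨_, e.surjective.comp sπ, le_antisymm (fun a ha => (m ⟨a, Pre_le ha⟩).1 ha)
        (zpowers_le.2 ((m ⟨t, self_mem_cent1 t⟩).2 (mem_zpowers t)))⟩)
  obtain ⟨g, rfl⟩ := sπ x
  have k : ⁅(g : G), y⁆ ∈ zpowers t := (hπ ⁅g, ⟨y, h.yC⟩⁆).1 (by
    rw [map_commutatorElement, cm_one]; exact (mem_cent.1 hx _ (mem_zpowers _)).symm)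
  have k1 : (g : G) ∈ 𝐂[y] := cent1_of_cm (((PC.mem_zp h.tt).1 k).resolve_right fun e => h.t1 ?_)
  · rcases h.cent g g.2 k1 with ⟨n, e⟩ | ⟨n, e⟩
    · exact ⟨n, (map_zpow π _ n).symm.trans (congrArg π (Subtype.ext e))⟩
    · refine ⟨n, (map_zpow π _ n).symm.trans ?_⟩
      rw [← mul_one (π g), ← pt, ← map_mul]; exact congrArg π (Subtype.ext e)
  refine eq_one_of_pw ?_ ((sq t).trans h.tt) (by norm_num : Nat.Coprime 3 2)
  rw [← mul_one (t ^ 3), ← y3, ← (show Commute t y from (mem_cent1.1 h.yC).symm).mul_pow, ← e,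
    cdef, inv_mul_cancel_right, conj_pow, y3, mul_one, mul_inv_cancel]

end Cfsg.Lib.Six
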