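import Cfsg.Agent.Lib.Six.Hom
import Cfsg.Agent.S3285

/-! Construction of the configurations; the case `C(t) / Q ≅ A₅` gives `J₁`. -/

set_option autoImplicit false

namespace Cfsg.Lib.Six

open Subgroup Cfsg.Lib.BG Cfsg.Lib.FGS Cfsg.Lib.SR Cfsg.Lib.Harada Equiv
open scoped Cfsg.Lib.Transfer Pointwise commutatorElement

variable {G : Type*} [Group G] {t y g : G} {K Q S : Subgroup G}

theorem pg_zp {p : ℕ} (h : ∃ k, g ^ p ^ k = 1) : IsPGroup p (zpowers g) := fun ⟨_, n, rfl⟩ =>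
  h.imp fun k e => Subtype.ext (by
    change (g ^ n) ^ p ^ k = 1
    rw [← zpow_natCast, ← zpow_mul, mul_comm, zpow_mul, zpow_natCast, e, one_zpow])

variable [Finite G]

theorem index_ne_two [IsSimpleGroup G] (hG : ¬ IsMulCommutative G) : K.index ≠ 2 := fun h => by
  rcases (normal_of_index_eq_two h).eq_bot_or_eq_top with rfl | rfl
  · exact hG (isCyclic_of_prime_card (index_bot (G := G) ▸ h)).isMulCommutative
  · simp at h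

theorem Hy.y_mem (h : Hy t y) (hK : K ≤ 𝐂[t]) (hn : 𝐂[t] ≤ 𝐍(K)) (h3 : 3 ∣ Nat.card K) : y ∈ K := by
  obtain ⟨w, w1, w2⟩ := Core.exists_mem_orderOf_eq_prime Nat.prime_three h3
  obtain ⟨c, c1, c2⟩ := (Syl.of_card_le' h.syl (pg_zp3 w2) (zpowers_le.2 (hK w1))
    (by rw [card_zp3 w2, card_zp3 h.oy])).exists_conj_eq h.syl
  exact conj_le_of_norm (zpowers_le.2 w1) (hn c1) (c2 ▸ mem_zpowers y)

set_option synthInstance.maxSize 2048 in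
theorem Hy.sa (h : Hy t y) {φ : 𝐂[t] →* Perm (Fin 3)} (h2 : IsPGroup 2 (Pre φ ⊥))
    (tQ : t ∈ Pre φ ⊥) (yQ : y ∉ Pre φ ⊥) (hS : Syl 2 S 𝐂[t]) (r3 : PC.R3 S) :
    Sa t y (Pre φ ⊥) S := by
  have QS := hS.ge_of_norm_p Pre_le h2 (hS.le.trans norm_Pre')
  have six : ∀ a : Perm (Fin 3), a ^ 6 = 1 := by decide +kernel
  have c1 : φ ⟨y, h.yC⟩ ≠ 1 := fun e => yQ ((mem_Pre' ⟨y, h.yC⟩).2 e)
  have c3 : φ ⟨y, h.yC⟩ ^ 3 = 1 := by
    rw [← map_pow, ← φ.map_one]; exact congrArg φ (Subtype.ext (OddChar.cube_of_orderOf h.oy))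
  have s2 : ∀ s (hs : s ∈ S), φ ⟨s, hS.le hs⟩ ^ 2 = 1 := fun s hs => by
    obtain ⟨k, e⟩ := pw_of_mem hS.pgroup hs
    refine eq_one_of_pw (by rw [← pow_mul]; exact six _) ?_ (co32 k)
    rw [← pow_mul, mul_comm, pow_mul, ← map_pow, ← map_pow, ← φ.map_one]
    exact congrArg φ (Subtype.ext (by simp [e]))
  have ca0 : ∀ g : 𝐂[t], φ g = 1 ∨ φ g = φ ⟨y, h.yC⟩ ∨ φ g = φ ⟨y, h.yC⟩ * φ ⟨y, h.yC⟩ →
      ∃ s ∈ S, g * s = 1 ∨ g * s = y ∨ g * s = y * y := fun g k => by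
    rcases k with k | k | k
    · exact ⟨_, QS ((mem_Pre' g⁻¹).2 (by simp [k])), .inl (by simp)⟩
    · exact ⟨_, QS ((mem_Pre' (g⁻¹ * ⟨y, h.yC⟩)).2 (by simp [k])), .inr (.inl (by simp))⟩
    · exact ⟨_, QS ((mem_Pre' (g⁻¹ * (⟨y, h.yC⟩ * ⟨y, h.yC⟩))).2 (by rw [map_mul, map_mul, map_inv, k]; simp)),
        .inr (.inr (by simp))⟩
  have ca : ∀ g ∈ 𝐂[t], ∃ s ∈ S, g * s = 1 ∨ g * s = y ∨ g * s = y * y := fun g hg => by
    have d : ∀ a c : Perm (Fin 3), c ≠ 1 → c ^ 3 = 1 → (a = 1 ∨ a = c ∨ a = c * c) ∨ a ^ 2 = 1 ∧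
      ∀ x : Perm (Fin 3), a * (x * a * x⁻¹) = 1 ∨ a * (x * a * x⁻¹) = c ∨
        a * (x * a * x⁻¹) = c * c := by decide +kernel
    refine (d (φ ⟨g, hg⟩) _ c1 c3).elim (ca0 _) fun ⟨k1, k2⟩ => ?_
    obtain ⟨n, e⟩ := pw_of_mem h2 ((mem_Pre' (⟨g, hg⟩ ^ 2)).2 ((map_pow _ _ _).trans k1))
    obtain ⟨x, x1, x2⟩ := hS.exists_conj_le (pg_zp ⟨n + 1, by rw [pow_succ', pow_mul]; exact e⟩)
      (zpowers_le.2 hg)
    obtain ⟨s, s1, s3⟩ := ca0 (⟨g, hg⟩ * (⟨x, x1⟩ * ⟨g, hg⟩ * ⟨x, x1⟩⁻¹))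
      (by simpa only [map_mul, map_inv] using k2 (φ ⟨x, x1⟩))
    exact ⟨_, mul_mem (x2 (Transfer.conj_mem_conj.2 (mem_zpowers g))) s1, mul_assoc g _ s ▸ s3⟩
  refine ⟨⟨h, tQ, h2, Pre_le, norm_Pre', hS, r3, fun K hK hn => or_iff_not_imp_left.2 fun k => ?_,
    fun g hg => (ca g hg).imp fun s hs => ⟨hs.1, ?_⟩⟩, ca, ?_,
    fun g hg => (mem_Pre' (⟨g, hg⟩ ^ 6)).2 ((map_pow _ _ _).trans (six _)), fun b hb b1 b2 => ?_⟩
  · obtain ⟨g, g1, g2⟩ := SetLike.not_le_iff_exists.1 k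
    have d : ∀ a c : Perm (Fin 3), c ≠ 1 → c ^ 3 = 1 → a ≠ 1 →
      a ^ 3 = 1 ∨ ⁅a, c⁆ ≠ 1 ∧ ⁅a, c⁆ ^ 3 = 1 := by decide +kernel
    have g3 : φ ⟨g, hK g1⟩ ≠ 1 := fun e => g2 ((mem_Pre' ⟨g, hK g1⟩).2 e)
    have key : ∀ x : 𝐂[t], (x : G) ∈ K → φ x ≠ 1 → φ x ^ 3 = 1 → y ∈ K := fun x x1 x2 x3 =>
      h.y_mem hK hn (OddChar.orderOf_eq_three x3 x2 ▸ (orderOf_map_dvd φ x).trans
        (orderOf_coe x ▸ orderOf_dvd_natCard _ x1))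
    rcases d _ _ c1 c3 g3 with k | k
    · exact key _ g1 g3 k
    · rw [← map_commutatorElement] at k
      exact key _ (cm_memY (hn h.yC) g1) k.1 k.2
  · have := OddChar.cube_of_orderOf h.oy
    rcases hs.2 with e | e | e <;> rw [e]
    · simp
    · exact this ▸ one_mem _
    · rw [← sq, ← pow_mul, pow_mul', this, one_pow]; exact one_mem _
  · by_cases k : S ≤ Pre φ ⊥
    · have := card_le_of_le k; omega
    obtain ⟨s, s1, s3⟩ := SetLike.not_le_iff_exists.1 k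
    have d : ∀ a b : Perm (Fin 3), a ≠ 1 → b ≠ 1 → a ^ 2 = 1 → b ^ 2 = 1 → (a⁻¹ * b) ^ 2 = 1 →
      a⁻¹ * b = 1 := by decide +kernel
    refine card_le_two_mul (s := s) fun g hg => or_iff_not_imp_left.2 fun k =>
      (mem_Pre' ((⟨s, hS.le s1⟩ : 𝐂[t])⁻¹ * ⟨g, hS.le hg⟩)).2 ?_
    rw [map_mul, map_inv]
    refine d _ _ (fun e => s3 ((mem_Pre' ⟨s, _⟩).2 e)) (fun e => k ((mem_Pre' ⟨g, _⟩).2 e))
      (s2 s s1) (s2 g hg) ?_
    rw [← map_inv, ← map_mul]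
    exact s2 _ (mul_mem (inv_mem s1) hg)
  · have d : ∀ a c : Perm (Fin 3), c ≠ 1 → c ^ 3 = 1 → a ≠ 1 → a * a = 1 →
      (a * (c * a * c⁻¹)) ^ 3 = 1 ∧ a * (c * a * c⁻¹) ≠ 1 := by decide +kernel
    have k := d (φ ⟨b, hb⟩) _ c1 c3 (fun e => b1 ((mem_Pre' ⟨b, hb⟩).2 e))
      ((map_mul _ _ _).symm.trans ((mem_Pre' (⟨b, hb⟩ * ⟨b, hb⟩)).1 b2))
    rw [← map_inv, ← map_mul, ← map_mul, ← map_mul, ← map_pow] at k
    exact ⟨(mem_Pre' _).2 k.1, fun e => k.2 ((mem_Pre' _).1 e)⟩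

/-- The Klein four-group in `A₅`. -/
def va : alternatingGroup (Fin 5) := ⟨swap 0 1 * swap 2 3, Perm.mem_alternatingGroup.2 (by decide)⟩

def vb : alternatingGroup (Fin 5) := ⟨swap 0 2 * swap 1 3, Perm.mem_alternatingGroup.2 (by decide)⟩

def V4 : Subgroup (alternatingGroup (Fin 5)) where
  carrier := {x | x ∈ [1, va, vb, va * vb]}
  mul_mem' := fun {a b} ha hb => (by decide +kernel :
    ∀ a ∈ [1, va, vb, va * vb], ∀ b ∈ [1, va, vb, va * vb], a * b ∈ [1, va, vb, va * vb]) a ha b hb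
  one_mem' := List.mem_cons_self
  inv_mem' := fun {a} ha =>
    (by decide +kernel : ∀ a ∈ [1, va, vb, va * vb], a⁻¹ ∈ [1, va, vb, va * vb]) a ha

theorem card_V4 : Nat.card V4 = 4 :=
  (Nat.subtype_card [1, va, vb, va * vb].toFinset fun _ => List.mem_toFinset).trans
    (by decide +kernel)

theorem card_A5 : Nat.card (⊤ : Subgroup (alternatingGroup (Fin 5))) = 60 := by
  rw [card_top, nat_card_alternatingGroup]; simp [Nat.factorial]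

theorem Hy.sb (h : Hy t y) {φ : 𝐂[t] →* alternatingGroup (Fin 5)} (hφ : Function.Surjective φ)
    (tQ : t ∈ Pre φ ⊥) (cm : ⁅Pre φ ⊥, Pre φ ⊥⁆ ≤ zpowers t) (h2 : ∀ g ∈ Pre φ ⊥, g ^ 2 ∈ zpowers t)
    (r3 : PC.R3 (⊤ : Subgroup G)) : Sb t y (Pre φ ⊥) (Pre φ V4) := by
  have Q2 : IsPGroup 2 (Pre φ ⊥) := fun g => ⟨2, Subtype.ext (by
    change (g : G) ^ (2 * 2) = 1
    rw [pow_mul, sq ((g : G) ^ 2), PC.zp_sq h.tt _ (h2 g g.2)])⟩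
  have c1 := card_Pre (V := V4) hφ
  have c2 := card_Pre (V := ⊤) hφ
  rw [Pre_top, card_A5] at c2
  rw [card_V4] at c1
  obtain ⟨n, c3⟩ := Q2.exists_card_eq
  have hS : Syl 2 (Pre φ V4) 𝐂[t] := Syl.mk' Pre_le (.of_card (n := n + 2) (by rw [c1, c3]; ring)) (by
    have := card_mul_relIndex (Pre_le (φ := φ) (V := V4))
    have : 0 < Nat.card (Pre φ ⊥) := Nat.card_pos
    rw [show (Pre φ V4).relIndex 𝐂[t] = 15 by nlinarith]; norm_num)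
  have St : St t y (Pre φ ⊥) (Pre φ V4) := ⟨h, tQ, Q2, Pre_le, norm_Pre', hS, r3.syl (h.sylG hS),
    fun K hK hn => ?_, fun g hg => ?_⟩
  · obtain ⟨c, c4⟩ := hφ ⟨swap 0 1 * swap 1 2, Perm.mem_alternatingGroup.2 (by decide)⟩
    refine ⟨St, cm, c1, (Core.exists_mem_orderOf_eq_prime (by norm_num) ⟨12 * _, c2.trans (by ring)⟩),
      ⟨(c : G) ^ 4, pow_mem (mem_inf.2 ⟨norm_Pre c.2 ?_, c.2⟩) 4, St.ord4 c.2 ((mem_Pre' (c ^ 3)).2 ?_)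
        fun e => ?_⟩, fun g hg => (mem_Pre' (⟨g, hg⟩ ^ 60)).2 ?_, fun g hg g5 => ?_⟩
    · rw [Subtype.coe_eta, c4]
      refine Transfer.mem_normalizer_of_conj_le ?_
      rintro _ ⟨v, hv, rfl⟩
      revert v
      change ∀ v ∈ [1, va, vb, va * vb], _ * v * _ ∈ [1, va, vb, va * vb]
      decide +kernel
    · rw [map_pow, c4]; decide +kernel
    · rw [mem_Pre', c4] at e; revert e; decide +kernel
    · rw [map_pow, ← card_A5, card_top, pow_card_eq_one']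
    · obtain ⟨x, x1⟩ := hφ va
      have d : ∀ a : alternatingGroup (Fin 5), a ^ 5 = 1 → a * va * a⁻¹ ∈ [1, va, vb, va * vb] →
        a = 1 := by decide +kernel
      have g1 : g ^ 5 = 1 := g5 ▸ pow_orderOf_eq_one g
      obtain ⟨k, e⟩ := pw_of_mem Q2 ((mem_Pre' ⟨g, hg.2⟩).2 (d _ (by
        rw [← map_pow, ← φ.map_one]; exact congrArg φ (Subtype.ext g1)) (by
          have := (mem_Pre ((⟨g, hg.2⟩ : 𝐂[t]) * x * ⟨g, hg.2⟩⁻¹).2).1 (conj_mem_of_norm hg.1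
            ((mem_Pre x.2).2 (x1 ▸ List.mem_cons_of_mem _ List.mem_cons_self)))
          rwa [Subtype.coe_eta, map_mul, map_mul, map_inv, x1] at this)))
      rw [eq_one_of_pw g1 e (Nat.Coprime.pow_right _ (by norm_num)), orderOf_one] at g5
      omega
  · have : (K.subgroupOf 𝐂[t]).Normal := (normal_subgroupOf_iff_le_normalizer hK).2 hn
    refine (this.map φ hφ).eq_bot_or_eq_top.imp (fun e g hg => (mem_Pre (hK hg)).2
      (e.le (mem_map_of_mem φ hg))) fun e => h.y_mem hK hn ?_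
    rw [← Core.card_subgroupOf_of_le hK]
    exact (show 3 ∣ 60 by norm_num).trans (card_A5 ▸ e ▸ card_map_dvd _ φ)
  · obtain ⟨v, v1, v2⟩ := (by decide +kernel : ∀ a : alternatingGroup (Fin 5),
      ∃ v ∈ [1, va, vb, va * vb], (a * v) ^ 3 = 1) (φ ⟨g, hg⟩)
    obtain ⟨s, rfl⟩ := hφ v
    exact ⟨s, (mem_Pre s.2).2 v1, (mem_Pre' ((⟨g, hg⟩ * s) ^ 3)).2 (by rwa [map_pow, map_mul])⟩

theorem Hy.j1 [IsSimpleGroup G] (hG : ¬ IsMulCommutative G) (h : Hy t y)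
    {φ : 𝐂[t] →* alternatingGroup (Fin 5)} (hφ : Function.Surjective φ)
    (tQ : t ∈ Pre φ ⊥) (cm : ⁅Pre φ ⊥, Pre φ ⊥⁆ ≤ zpowers t) (h2 : ∀ g ∈ Pre φ ⊥, g ^ 2 ∈ zpowers t)
    (r3 : PC.R3 (⊤ : Subgroup G)) : Spor.IsoJ1 G := by
  have hb := h.sb hφ tQ cm h2 r3
  set S := Pre φ V4
  have c1 := card_le_of_le hb.Q_le
  rw [Nat.card_zpowers, h.ot] at c1
  obtain ⟨E, e1, e2, e3⟩ := hb.r3
  obtain rfl := eq_of_le_of_card_le e1 (by have := hb.idx; omega)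
  have : IsMulCommutative (S.subgroupOf 𝐂[t]) := ⟨⟨fun a b => Subtype.ext (Subtype.ext
    (sq_comm e2 a.2 b.2))⟩⟩
  have k := Transfer.inf_commutator_inf_center_eq_bot_of_abelian_hall (S.subgroupOf 𝐂[t]) (by
    rw [Core.card_subgroupOf_of_le hb.SC]
    obtain ⟨n, e⟩ := hb.sS.pgroup.exists_card_eq
    exact e ▸ ((Nat.Prime.coprime_iff_not_dvd Nat.prime_two).2 hb.sS.not_dvd').pow_left n)
  have k1 : ∀ x ∈ commutator 𝐂[t], (x : G) ∈ zpowers t → x = 1 := fun x x1 x2 =>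
    k.le (mem_inf.2 ⟨mem_inf.2 ⟨zpowers_le.2 hb.tZ.1.1 x2, x1⟩, mem_center_iff.2 fun z =>
      Subtype.ext (mem_cent.1 ((cent_zpowers t).ge z.2) _ x2).symm⟩)
  have k2 : ∀ a, ∃ x ∈ commutator 𝐂[t], φ x = a := fun a => by
    have := map_commutator_eq 𝐂[t] φ
    rw [MonoidHom.range_eq_top.2 hφ, ← _root_.commutator_def,
      commutator_alternatingGroup_eq_top (by simp)] at this
    exact this.ge (mem_top a)
  obtain ⟨P, hP⟩ := Syl.top_iff_sylow.1 (h.sylG hb.sS)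
  refine ((Cfsg.Agent.S3285.result (fun e => hG ⟨⟨IsSimpleGroup.comm_iff_isSolvable.2 e⟩⟩)
    (fun N _ => index_ne_two hG) t ⟨h.ot, P, hP.ge hb.tZ.1.1,
      fun x hx => mem_cent1.1 (hb.SC (hP.le hx))⟩ 5 ((commutator 𝐂[t]).map (𝐂[t]).subtype)
    ⟨(equivMapOfInjective _ _ (subtype_injective _)).symm.trans (MulEquiv.ofBijective
      (φ.comp (commutator 𝐂[t]).subtype) ⟨(injective_iff_map_eq_one _).2 fun x hx =>
        Subtype.ext (k1 x x.2 (hb.Q_le ((mem_Pre' _).2 hx))), fun a => ?_⟩)⟩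
    ⟨zpowers_le.2 (self_mem_cent1 t), map_subtype_le _, fun a ha b hb' =>
      mem_cent.1 ((cent_zpowers t).ge (map_subtype_le _ hb')) a ha, eq_bot_iff.2 ?_,
      le_antisymm (sup_le (zpowers_le.2 (self_mem_cent1 t)) (map_subtype_le _))
        fun g hg => ?_⟩).resolve_left fun e => absurd e.1 (by norm_num)).2
  · obtain ⟨x, x1, x2⟩ := k2 a
    exact ⟨⟨x, x1⟩, x2⟩
  · rintro _ ⟨h1, x, x1, rfl⟩
    exact congrArg Subtype.val (k1 x x1 h1)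
  · obtain ⟨x, x1, x2⟩ := k2 (φ ⟨g, hg⟩)
    rw [← inv_mul_cancel_right g (x : G)]
    exact mul_mem (mem_sup_left (hb.Q_le ((mem_Pre' (⟨g, hg⟩ * x⁻¹)).2 (by simp [x2]))))
      (mem_sup_right ⟨x, x1, rfl⟩)

end Cfsg.Lib.Six
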